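import Cfsg.Agent.H12.DL.Defs
import Mathlib.FieldTheory.IsAlgClosed.Basic
import Mathlib.LinearAlgebra.Eigenspace.Triangularizable
import Mathlib.GroupTheory.Sylow
import Mathlib.GroupTheory.Nilpotent
import Mathlib.Algebra.CharP.Lemmas
import Mathlib.Algebra.CharP.Two

/-!
A finite `2`-group acting projectively in characteristic two has a common eigenvector, and acting
linearly it has a fixed vector (helper12, for S4259).
-/

set_option autoImplicit false
set_option linter.all false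

namespace H12.DL

open Module

universe u v x

variable {G : Type u} [Group G] {K : Type v} [Field K] {E : Type x} [AddCommGroup E] [Module K E]

/-- A projective action. -/
structure IsProj (T : G → Module.End K E) : Prop where
  inj : ∀ g, Function.Injective (T g)
  mul : ∀ g h, ∃ c : K, c ≠ 0 ∧ T g * T h = c • T (g * h)

theorem IsProj.one {T : G → Module.End K E} (hT : IsProj T) :
    ∃ c : K, c ≠ 0 ∧ T 1 = c • (1 : Module.End K E) := by
  obtain ⟨c, hc, h⟩ := hT.mul 1 1
  rw [mul_one] at h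
  refine ⟨c, hc, LinearMap.ext fun v => hT.inj 1 ?_⟩
  have := LinearMap.congr_fun h v
  rw [Module.End.mul_apply, LinearMap.smul_apply] at this
  rw [LinearMap.smul_apply, Module.End.one_apply, map_smul, this]

theorem IsProj.pow {T : G → Module.End K E} (hT : IsProj T) (g : G) :
    ∀ n : ℕ, ∃ c : K, c ≠ 0 ∧ T g ^ n = c • T (g ^ n)
  | 0 => by
    obtain ⟨c, hc, h⟩ := hT.one
    exact ⟨c⁻¹, inv_ne_zero hc, by rw [pow_zero, pow_zero, h, smul_smul, inv_mul_cancel₀ hc, one_smul]⟩
  | n + 1 => by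
    obtain ⟨c, hc, h⟩ := hT.pow g n
    obtain ⟨c', hc', h'⟩ := hT.mul (g ^ n) g
    exact ⟨c * c', mul_ne_zero hc hc', by rw [pow_succ, pow_succ, h, smul_mul_assoc, h', smul_smul]⟩

variable [CharP K 2]

theorem eq_one_of_pow_two_pow {a : K} {n : ℕ} (h : a ^ 2 ^ n = 1) : a = 1 := by
  haveI : Fact (Nat.Prime 2) := ⟨Nat.prime_two⟩
  exact (iterateFrobenius_inj K 2 n) (by simp [iterateFrobenius_def, h])

theorem eq_of_pow_two_pow {a b : K} {n : ℕ} (h : a ^ 2 ^ n = b ^ 2 ^ n) : a = b := by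
  haveI : Fact (Nat.Prime 2) := ⟨Nat.prime_two⟩
  exact (iterateFrobenius_inj K 2 n) (by simp [iterateFrobenius_def, h])

/-- A member of a projectively acting `2`-group has one eigenvalue. -/
theorem IsProj.eigen_unique {T : G → Module.End K E} (hT : IsProj T) {g : G} {n : ℕ}
    (hg : g ^ 2 ^ n = 1) {a b : K} {v w : E} (hv : v ≠ 0) (hw : w ≠ 0) (ha : T g v = a • v)
    (hb : T g w = b • w) : a = b := by
  obtain ⟨c, -, h⟩ := hT.pow g (2 ^ n)
  obtain ⟨c', -, h'⟩ := hT.one
  rw [hg, h', smul_smul] at h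
  have key : ∀ {a : K} {v : E}, v ≠ 0 → T g v = a • v → a ^ 2 ^ n = c * c' := by
    intro a v hv ha
    have hp : ∀ k : ℕ, (T g ^ k) v = a ^ k • v := by
      intro k
      induction k with
      | zero => simp
      | succ k ih => rw [pow_succ, Module.End.mul_apply, ha, map_smul, ih, smul_smul, pow_succ']
    have h1 := LinearMap.congr_fun h v
    rw [hp, LinearMap.smul_apply, Module.End.one_apply] at h1
    exact smul_left_injective K hv h1
  exact eq_of_pow_two_pow ((key hv ha).trans (key hw hb).symm)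

variable [IsAlgClosed K] [FiniteDimensional K E]

/-- A finite `2`-group acting projectively in characteristic two has a common eigenvector. -/
theorem IsProj.exists_common [Finite G] (hG : IsPGroup 2 G) [Nontrivial E]
    {T : G → Module.End K E} (hT : IsProj T) (I : Submodule K E) (hI : I ≠ ⊥)
    (hinv : ∀ g, ∀ v ∈ I, T g v ∈ I) :
    ∃ v ∈ I, v ≠ 0 ∧ ∀ g, ∃ a : K, T g v = a • v := by
  classical
  haveI : Fact (Nat.Prime 2) := ⟨Nat.prime_two⟩
  suffices key : ∀ m, ∀ H : Subgroup G, Nat.card H = m →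
      ∃ v ∈ I, v ≠ 0 ∧ ∀ g ∈ H, ∃ a : K, T g v = a • v by
    obtain ⟨v, hv, hv0, h⟩ := key _ ⊤ rfl
    exact ⟨v, hv, hv0, fun g => h g trivial⟩
  intro m
  induction m using Nat.strong_induction_on with
  | _ m ih =>
    intro H hH
    have hone : ∀ v : E, ∃ a : K, T 1 v = a • v := fun v => by
      obtain ⟨c, -, h⟩ := hT.one
      exact ⟨c, by rw [h]; rfl⟩
    by_cases hb : H = ⊥
    · obtain ⟨v, hv, hv0⟩ := (Submodule.ne_bot_iff I).mp hI
      exact ⟨v, hv, hv0, fun g hg => by rw [hb, Subgroup.mem_bot] at hg; rw [hg]; exact hone v⟩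
    -- a maximal subgroup of `H`
    haveI : Nontrivial H := (Subgroup.nontrivial_iff_ne_bot H).mpr hb
    obtain ⟨M, hM, -⟩ := (eq_top_or_exists_le_coatom (⊥ : Subgroup H)).resolve_left bot_ne_top
    haveI : Group.IsNilpotent H := (hG.to_subgroup H).isNilpotent
    haveI hMn : M.Normal := Subgroup.NormalizerCondition.normal_of_coatom M
      Group.normalizerCondition_of_isNilpotent hM
    set M' := M.map H.subtype with hM'
    have hM'H : M' ≤ H := Subgroup.map_subtype_le _
    have hlt : Nat.card M' < m := by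
      rw [← hH, Subgroup.card_map_of_injective H.subtype_injective]
      exact lt_of_le_of_ne M.card_le_card_group fun he => hM.1 (Subgroup.eq_top_of_card_eq M he)
    obtain ⟨v₀, hv₀, hv₀0, hv₀e⟩ := ih _ hlt M' rfl
    -- the common eigenvectors of `M'` in `I` form a subspace
    choose! μ hμ using hv₀e
    let EM : Submodule K E := I ⊓ ⨅ h ∈ M', LinearMap.ker (T h - μ h • (1 : Module.End K E))
    have memEM : ∀ v, v ∈ EM ↔ v ∈ I ∧ ∀ h ∈ M', T h v = μ h • v := by
      intro v
      simp only [EM, Submodule.mem_inf, Submodule.mem_iInf, LinearMap.mem_ker, LinearMap.sub_apply,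
        LinearMap.smul_apply, Module.End.one_apply, sub_eq_zero]
    have hv₀EM : v₀ ∈ EM := (memEM v₀).mpr ⟨hv₀, hμ⟩
    obtain ⟨g, hg⟩ := SetLike.exists_not_mem_of_ne_top M hM.1
    have hgEM : ∀ v ∈ EM, T (g : G) v ∈ EM := by
      intro v hv
      rcases eq_or_ne v 0 with rfl | hv0
      · rw [map_zero]; exact zero_mem _
      obtain ⟨hvI, hve⟩ := (memEM v).mp hv
      refine (memEM _).mpr ⟨hinv _ v hvI, fun h hh => ?_⟩
      obtain ⟨h', hh', rfl⟩ := hh
      have hh'' : ((g⁻¹ * h' * g : H) : G) ∈ M' :=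
        ⟨_, by simpa using hMn.conj_mem h' hh' g⁻¹, rfl⟩
      obtain ⟨c, hc, h1⟩ := hT.mul (h' : G) g
      obtain ⟨c', hc', h2⟩ := hT.mul (g : G) ((g⁻¹ * h' * g : H) : G)
      have he : (g : G) * ((g⁻¹ * h' * g : H) : G) = (h' : G) * g := by
        simp only [Subgroup.coe_mul, Subgroup.coe_inv]; group
      rw [he] at h2
      obtain ⟨n, hn⟩ := hG (h' : G)
      have h3 : T (h' : G) (T (g : G) v) = (c * c'⁻¹ * μ ((g⁻¹ * h' * g : H) : G)) • T (g : G) v := by
        have a1 : T (h' : G) (T (g : G) v) = c • T ((h' : G) * g) v := LinearMap.congr_fun h1 v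
        have a2 : T (g : G) (T ((g⁻¹ * h' * g : H) : G) v) = c' • T ((h' : G) * g) v :=
          LinearMap.congr_fun h2 v
        rw [hve _ hh'', map_smul] at a2
        rw [a1, mul_assoc, ← smul_smul, ← smul_smul, a2, inv_smul_smul₀ hc']
      have hgv : T (g : G) v ≠ 0 := fun h0 => hv0 (hT.inj _ (by rw [h0, map_zero]))
      show T (h' : G) (T (g : G) v) = μ (h' : G) • T (g : G) v
      rw [h3, hT.eigen_unique hn hgv hv₀0 h3 (hμ _ ⟨h', hh', rfl⟩)]
    let φ : Module.End K EM := (T (g : G)).restrict hgEM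
    haveI : Nontrivial EM := ⟨⟨⟨v₀, hv₀EM⟩, 0, fun h => hv₀0 (congrArg Subtype.val h)⟩⟩
    obtain ⟨a, ha⟩ := Module.End.exists_eigenvalue φ
    obtain ⟨⟨w, hw⟩, hwe⟩ := ha.exists_hasEigenvector
    have hw0 : w ≠ 0 := fun h => hwe.2 (Subtype.ext h)
    have hgw : T (g : G) w = a • w := congrArg Subtype.val hwe.apply_eq_smul
    obtain ⟨hwI, hwM⟩ := (memEM w).mp hw
    -- the elements with eigenvector `w`
    let Sb : Subgroup H :=
      { carrier := {h | ∃ a : K, a ≠ 0 ∧ T (h : G) w = a • w}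
        one_mem' := by
          obtain ⟨c, hc, h⟩ := hT.one
          exact ⟨c, hc, by rw [Subgroup.coe_one, h]; rfl⟩
        mul_mem' := fun {h k} ⟨a, ha, h1⟩ ⟨b, hb, h2⟩ => by
          obtain ⟨c, hc, h3⟩ := hT.mul (h : G) k
          refine ⟨c⁻¹ * (b * a), mul_ne_zero (inv_ne_zero hc) (mul_ne_zero hb ha), ?_⟩
          have h4 : T (h : G) (T (k : G) w) = c • T ((h : G) * k) w := LinearMap.congr_fun h3 w
          rw [h2, map_smul, h1, smul_smul] at h4
          rw [Subgroup.coe_mul, ← smul_smul, h4, inv_smul_smul₀ hc]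
        inv_mem' := fun {h} ⟨a, ha, h1⟩ => by
          obtain ⟨c, hc, h3⟩ := hT.mul ((h⁻¹ : H) : G) h
          obtain ⟨c', hc', h5⟩ := hT.one
          refine ⟨a⁻¹ * (c * c'), mul_ne_zero (inv_ne_zero ha) (mul_ne_zero hc hc'), ?_⟩
          have h4 : T ((h⁻¹ : H) : G) (T (h : G) w) = c • T (((h⁻¹ : H) : G) * h) w :=
            LinearMap.congr_fun h3 w
          rw [h1, map_smul, ← Subgroup.coe_mul, inv_mul_cancel, Subgroup.coe_one, h5,
            LinearMap.smul_apply, Module.End.one_apply, smul_smul] at h4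
          rw [← smul_smul, ← h4, inv_smul_smul₀ ha] }
    have hne : ∀ {h : H} {b : K}, T (h : G) w = b • w → h ∈ Sb := fun {h b} hb' =>
      ⟨b, fun h0 => hw0 (hT.inj (h : G) (by rw [hb', h0, zero_smul, map_zero])), hb'⟩
    have htop : Sb = ⊤ := by
      refine hM.2 Sb (lt_of_le_of_ne (fun h hh => hne (hwM _ ⟨h, hh, rfl⟩)) fun he => hg ?_)
      rw [he]; exact hne hgw
    refine ⟨w, hwI, hw0, fun h hh => ?_⟩
    obtain ⟨b, -, hb'⟩ : (⟨h, hh⟩ : H) ∈ Sb := htop ▸ Subgroup.mem_top _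
    exact ⟨b, hb'⟩

/-- A finite `2`-group acting linearly in characteristic two fixes a nonzero vector. -/
theorem exists_fixed_vector [Finite G] (hG : IsPGroup 2 G) (op : G →* Module.End K E)
    (I : Submodule K E) (hI : I ≠ ⊥) (hinv : ∀ g, ∀ v ∈ I, op g v ∈ I) :
    ∃ v ∈ I, v ≠ 0 ∧ ∀ g, op g v = v := by
  haveI : Nontrivial E := by
    obtain ⟨v, -, hv⟩ := (Submodule.ne_bot_iff I).mp hI
    exact ⟨⟨v, 0, hv⟩⟩
  have hT : IsProj (fun g => op g) :=
    ⟨fun g a b hab => by
      have h := congrArg (op g⁻¹) hab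
      simpa [← Module.End.mul_apply, ← map_mul] using h,
     fun g h => ⟨1, one_ne_zero, by rw [one_smul, map_mul]⟩⟩
  obtain ⟨v, hv, hv0, h⟩ := hT.exists_common hG I hI hinv
  refine ⟨v, hv, hv0, fun g => ?_⟩
  obtain ⟨a, ha⟩ := h g
  obtain ⟨n, hn⟩ := hG g
  have hp : ∀ k : ℕ, op (g ^ k) v = a ^ k • v := by
    intro k
    induction k with
    | zero => simp
    | succ k ih =>
      rw [pow_succ, map_mul, Module.End.mul_apply, ha, map_smul, ih, smul_smul, pow_succ']
  have h1 := hp (2 ^ n)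
  rw [hn, map_one, Module.End.one_apply] at h1
  have : a ^ 2 ^ n = 1 := smul_left_injective K hv0 (by simpa using h1.symm)
  rw [ha, eq_one_of_pow_two_pow this, one_smul]

end H12.DL
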