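import Cfsg.Agent.H12.DL.Clock
import Cfsg.Agent.H12.DL.Proj

/-!
The algebra spanned by the operators attached to a subspace of the section, conjugation by the
group of operators, clock pairs attached to planes (helper12, for S4259).
-/

set_option autoImplicit false
set_option linter.all false

namespace H12.DL

open Module H51.Bryu

universe u v w x

variable {r : ℕ} [Fact r.Prime] {K : Type v} [Field K] {X : Type w} [AddCommGroup X]
  [Module (ZMod r) X] {E : Type x} [AddCommGroup E] [Module K E] {G : Type u} [Group G]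

namespace Heis

variable (H : Heis r K X E G)

/-- The operators spanned by `eps` on a subspace. -/
def A (P : Submodule (ZMod r) X) : Submodule K (Module.End K E) :=
  Submodule.span K (H.eps '' (P : Set X))

/-- Conjugation by an operator. -/
def conj (g : G) : Module.End K E →ₗ[K] Module.End K E :=
  (LinearMap.mulLeft K (H.op g)).comp (LinearMap.mulRight K (H.op g⁻¹))

theorem conj_apply (g : G) (y : Module.End K E) : H.conj g y = H.op g * (y * H.op g⁻¹) := rfl

theorem op_inv_mul (g : G) : H.op g⁻¹ * H.op g = 1 := by rw [← map_mul, inv_mul_cancel, map_one]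

theorem op_mul_inv (g : G) : H.op g * H.op g⁻¹ = 1 := by rw [← map_mul, mul_inv_cancel, map_one]

theorem op_inj (g : G) : Function.Injective (H.op g) := fun a b h => by
  have := congrArg (H.op g⁻¹) h
  rwa [← Module.End.mul_apply, ← Module.End.mul_apply, H.op_inv_mul] at this

theorem conj_mul (g : G) (y z : Module.End K E) : H.conj g (y * z) = H.conj g y * H.conj g z := by
  rw [conj_apply, conj_apply, conj_apply]
  calc H.op g * (y * z * H.op g⁻¹) = H.op g * (y * 1 * (z * H.op g⁻¹)) := by simp only [mul_one, mul_assoc]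
    _ = H.op g * (y * (H.op g⁻¹ * H.op g) * (z * H.op g⁻¹)) := by rw [H.op_inv_mul]
    _ = _ := by simp only [mul_assoc]

theorem conj_one (g : G) : H.conj g 1 = 1 := by rw [conj_apply, one_mul, H.op_mul_inv]

theorem conj_pow (g : G) (y : Module.End K E) : ∀ n : ℕ, H.conj g (y ^ n) = H.conj g y ^ n
  | 0 => by rw [pow_zero, pow_zero, conj_one]
  | n + 1 => by rw [pow_succ, pow_succ, conj_mul, conj_pow g y n]

theorem conj_comp (g h : G) (y : Module.End K E) : H.conj (g * h) y = H.conj g (H.conj h y) := by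
  simp only [conj_apply, mul_inv_rev, map_mul, mul_assoc]

theorem conj_id (y : Module.End K E) : H.conj 1 y = y := by
  rw [conj_apply, inv_one, map_one, one_mul, mul_one]

theorem conj_op (g : G) (y : Module.End K E) (v : E) : H.conj g y (H.op g v) = H.op g (y v) := by
  rw [conj_apply, Module.End.mul_apply, Module.End.mul_apply, ← Module.End.mul_apply (H.op g⁻¹),
    H.op_inv_mul, Module.End.one_apply]

theorem conj_apply_fixed {g : G} (y : Module.End K E) {v : E} (hv : H.op g v = v) :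
    H.op g (y v) = H.conj g y v := by
  rw [← H.conj_op g y v, hv]

variable [Nontrivial E]

theorem eps_inj (a : X) : Function.Injective (H.eps a) := fun p q h => by
  obtain ⟨c, hc, he⟩ := H.eps_mul (-a) a
  rw [neg_add_cancel, H.eps_zero] at he
  have h1 := congrArg (H.eps (-a)) h
  rw [← Module.End.mul_apply, ← Module.End.mul_apply, he] at h1
  exact smul_right_injective E hc h1

theorem eps_ne_zero (a : X) : H.eps a ≠ 0 := fun h => by
  obtain ⟨v, hv⟩ := exists_ne (0 : E)
  exact hv (H.eps_inj a (by rw [h]; rfl))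

theorem conj_eps (g : G) (a : X) : ∃ c : K, c ≠ 0 ∧ H.conj g (H.eps a) = c • H.eps (H.act g a) := by
  obtain ⟨c, hc⟩ := H.op_eps g a
  have h : H.conj g (H.eps a) = c • H.eps (H.act g a) := by
    rw [conj_apply, ← mul_assoc, hc, smul_mul_assoc, mul_assoc, H.op_mul_inv, mul_one]
  refine ⟨c, fun h0 => H.eps_ne_zero a (LinearMap.ext fun v => H.op_inj g ?_), h⟩
  rw [h0, zero_smul] at hc
  rw [LinearMap.zero_apply, map_zero, ← Module.End.mul_apply, hc, LinearMap.zero_apply]

theorem eps_pow (a : X) : ∀ n : ℕ, ∃ c : K, c ≠ 0 ∧ H.eps a ^ n = c • H.eps (n • a)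
  | 0 => ⟨1, one_ne_zero, by rw [pow_zero, zero_smul, H.eps_zero, one_smul]⟩
  | n + 1 => by
    obtain ⟨c, hc, h⟩ := eps_pow a n
    obtain ⟨c', hc', h'⟩ := H.eps_mul (n • a) a
    exact ⟨c * c', mul_ne_zero hc hc', by rw [pow_succ, h, smul_mul_assoc, h', smul_smul, succ_nsmul]⟩

section Algebra

variable {P Q : Submodule (ZMod r) X}

omit [Nontrivial E] in
theorem eps_mem {a : X} (ha : a ∈ P) : H.eps a ∈ H.A P := Submodule.subset_span ⟨a, ha, rfl⟩

omit [Nontrivial E] in
theorem one_mem_A (P : Submodule (ZMod r) X) : (1 : Module.End K E) ∈ H.A P :=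
  H.eps_zero ▸ H.eps_mem P.zero_mem

omit [Nontrivial E] in
theorem A_mono (h : P ≤ Q) : H.A P ≤ H.A Q := Submodule.span_mono (Set.image_mono h)

omit [Nontrivial E] in
theorem mul_mem_A {y z : Module.End K E} (hy : y ∈ H.A P) (hz : z ∈ H.A P) : y * z ∈ H.A P := by
  induction hy using Submodule.span_induction with
  | mem a ha =>
    obtain ⟨a, ha, rfl⟩ := ha
    induction hz using Submodule.span_induction with
    | mem b hb =>
      obtain ⟨b, hb, rfl⟩ := hb
      obtain ⟨c, -, h⟩ := H.eps_mul a b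
      rw [h]
      exact Submodule.smul_mem _ _ (H.eps_mem (add_mem ha hb))
    | zero => rw [mul_zero]; exact zero_mem _
    | add p q _ _ hp hq => rw [mul_add]; exact add_mem hp hq
    | smul c p _ hp => rw [mul_smul_comm]; exact Submodule.smul_mem _ c hp
  | zero => rw [zero_mul]; exact zero_mem _
  | add p q _ _ hp hq => rw [add_mul]; exact add_mem hp hq
  | smul c p _ hp => rw [smul_mul_assoc]; exact Submodule.smul_mem _ c hp

omit [Nontrivial E] in
theorem pow_mem_A {y : Module.End K E} (hy : y ∈ H.A P) : ∀ n : ℕ, y ^ n ∈ H.A P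
  | 0 => by rw [pow_zero]; exact H.one_mem_A P
  | n + 1 => by rw [pow_succ]; exact H.mul_mem_A (pow_mem_A hy n) hy

omit [Nontrivial E] in
theorem commute_A (horth : ∀ a ∈ P, ∀ b ∈ Q, H.F.b a b = 1) {y z : Module.End K E}
    (hy : y ∈ H.A P) (hz : z ∈ H.A Q) : Commute y z := by
  induction hy using Submodule.span_induction with
  | mem a ha =>
    obtain ⟨a, ha, rfl⟩ := ha
    induction hz using Submodule.span_induction with
    | mem b hb =>
      obtain ⟨b, hb, rfl⟩ := hb
      show H.eps a * H.eps b = H.eps b * H.eps a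
      rw [H.eps_comm, horth a ha b hb, one_smul]
    | zero => exact Commute.zero_right _
    | add p q _ _ hp hq => exact hp.add_right hq
    | smul c p _ hp => exact hp.smul_right c
  | zero => exact Commute.zero_left _
  | add p q _ _ hp hq => exact hp.add_left hq
  | smul c p _ hp => exact hp.smul_left c

theorem conj_mem_A (g : G) (hg : ∀ a ∈ P, H.act g a ∈ Q) {y : Module.End K E} (hy : y ∈ H.A P) :
    H.conj g y ∈ H.A Q := by
  induction hy using Submodule.span_induction with
  | mem a ha =>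
    obtain ⟨a, ha, rfl⟩ := ha
    obtain ⟨c, -, h⟩ := H.conj_eps g a
    rw [h]
    exact Submodule.smul_mem _ _ (H.eps_mem (hg a ha))
  | zero => rw [map_zero]; exact zero_mem _
  | add p q _ _ hp hq => rw [map_add]; exact add_mem hp hq
  | smul c p _ hp => rw [map_smul]; exact Submodule.smul_mem _ c hp

variable [CharP K 2]

/-- A `2`-element fixing a vector of the section commutes with its operator. -/
theorem conj_eps_eq {g : G} {n : ℕ} (hg : g ^ 2 ^ n = 1) {a : X} (ha : H.act g a = a) :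
    H.conj g (H.eps a) = H.eps a := by
  obtain ⟨c, hc, h⟩ := H.conj_eps g a
  rw [ha] at h
  have hp : ∀ k : ℕ, H.conj (g ^ k) (H.eps a) = c ^ k • H.eps a := by
    intro k
    induction k with
    | zero => rw [pow_zero, pow_zero, H.conj_id, one_smul]
    | succ k ih => rw [pow_succ, H.conj_comp, h, map_smul, ih, smul_smul, pow_succ']
  have h1 := hp (2 ^ n)
  rw [hg, H.conj_id] at h1
  have : c ^ 2 ^ n = 1 := smul_left_injective K (H.eps_ne_zero a)
    (show c ^ 2 ^ n • H.eps a = (1 : K) • H.eps a by rw [one_smul]; exact h1.symm)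
  rw [h, eq_one_of_pow_two_pow this, one_smul]

theorem conj_eq_self {g : G} {n : ℕ} (hg : g ^ 2 ^ n = 1) (hfix : ∀ a ∈ P, H.act g a = a)
    {y : Module.End K E} (hy : y ∈ H.A P) : H.conj g y = y := by
  induction hy using Submodule.span_induction with
  | mem a ha =>
    obtain ⟨a, ha, rfl⟩ := ha
    exact H.conj_eps_eq hg (hfix a ha)
  | zero => exact map_zero _
  | add p q _ _ hp hq => rw [map_add, hp, hq]
  | smul c p _ hp => rw [map_smul, hp]

end Algebra

/-- A clock pair spanning the algebra of a plane. -/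
structure PlaneClock (P : Submodule (ZMod r) X) (U V : Module.End K E) (ζ : K) : Prop where
  clock : Clock r U V ζ
  memU : U ∈ H.A P
  memV : V ∈ H.A P
  span : H.A P ≤ Submodule.span K (Set.range fun ij : Fin r × Fin r => V ^ (ij.1 : ℕ) * U ^ (ij.2 : ℕ))

variable [CharP K 2] [IsAlgClosed K]

theorem natCast_ne_zero (hr2 : r ≠ 2) : (r : K) ≠ 0 := by
  rw [Ne, CharP.cast_eq_zero_iff K 2 r]
  exact fun h => hr2 ((Nat.prime_dvd_prime_iff_eq Nat.prime_two Fact.out).mp h).symm

omit [CharP K 2] in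
theorem exists_norm_pow (a : X) : ∃ c : K, c ≠ 0 ∧ (c • H.eps a) ^ r = 1 := by
  obtain ⟨d, hd, h⟩ := H.eps_pow a r
  rw [← Nat.cast_smul_eq_nsmul (ZMod r), ZMod.natCast_self, zero_smul, H.eps_zero] at h
  obtain ⟨c, hc⟩ := IsAlgClosed.exists_pow_nat_eq d⁻¹ (Fact.out : r.Prime).pos
  refine ⟨c, fun h0 => ?_, by rw [smul_pow, h, smul_smul, hc, inv_mul_cancel₀ hd, one_smul]⟩
  rw [h0, zero_pow (Fact.out : r.Prime).ne_zero] at hc
  exact inv_ne_zero hd hc.symm

theorem exists_norm_neg {g : G} {a : X} (hga : H.act g a = -a) :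
    ∃ c : K, c ≠ 0 ∧ (c • H.eps a) ^ r = 1 ∧
      H.conj g (c • H.eps a) = (c • H.eps a) ^ (r - 1) := by
  obtain ⟨β, hβ, hb⟩ := H.conj_eps g a
  rw [hga] at hb
  obtain ⟨d, hd, hd'⟩ := H.eps_mul (-a) a
  rw [neg_add_cancel, H.eps_zero] at hd'
  obtain ⟨δ, hδ, hδ'⟩ := H.eps_pow a r
  rw [← Nat.cast_smul_eq_nsmul (ZMod r), ZMod.natCast_self, zero_smul, H.eps_zero] at hδ'
  obtain ⟨c, hc⟩ := IsAlgClosed.exists_pow_nat_eq (β * d)⁻¹ two_pos
  have hc0 : c ≠ 0 := fun h0 => by
    rw [h0, zero_pow two_ne_zero] at hc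
    exact inv_ne_zero (mul_ne_zero hβ hd) hc.symm
  set U := c • H.eps a with hU
  have hUU : H.conj g U * U = 1 := by
    rw [hU, map_smul, hb, smul_smul, smul_mul_smul_comm, hd', smul_smul]
    rw [show c * β * c * d = c ^ 2 * (β * d) by ring, hc, inv_mul_cancel₀ (mul_ne_zero hβ hd),
      one_smul]
  have hUU' : U * H.conj g U = 1 := by
    refine LinearMap.ext fun v => ?_
    have hinj : Function.Injective U := fun p q h => H.eps_inj a (smul_right_injective E hc0 h)
    have hcomm : Commute U (H.conj g U) := by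
      rw [hU, map_smul, hb]
      refine ((?_ : Commute (H.eps a) (H.eps (-a))).smul_right β).smul_right c |>.smul_left c
      show H.eps a * H.eps (-a) = _
      rw [H.eps_comm]
      have : H.F.b a (-a) = 1 := by
        have := H.F.add_right a a (-a)
        rwa [add_neg_cancel, H.F.zero_right, H.F.self, one_mul, eq_comm] at this
      rw [this, one_smul]
    rw [hcomm.eq, hUU]
  have hUr : U ^ r = (c ^ r * δ) • (1 : Module.End K E) := by
    rw [hU, smul_pow, hδ', smul_smul]
  set δ' := c ^ r * δ with hδ''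
  have h1 : H.conj g (U ^ r) * U ^ r = 1 := by
    rw [H.conj_pow, ← (show Commute (H.conj g U) U from hUU.trans hUU'.symm).mul_pow, hUU, one_pow]
  rw [hUr, map_smul, H.conj_one, smul_mul_smul_comm, one_mul] at h1
  have h2 : δ' ^ 2 ^ 1 = 1 := by
    obtain ⟨v, hv⟩ := exists_ne (0 : E)
    have := LinearMap.congr_fun h1 v
    rw [LinearMap.smul_apply, Module.End.one_apply] at this
    rw [pow_one, pow_two]
    exact smul_left_injective K hv (by simpa using this)
  rw [eq_one_of_pow_two_pow h2, one_smul] at hUr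
  refine ⟨c, hc0, hUr, ?_⟩
  calc H.conj g U = H.conj g U * (U * U ^ (r - 1)) := by
        rw [← pow_succ', Nat.sub_add_cancel (Fact.out : r.Prime).one_le, hUr, mul_one]
    _ = U ^ (r - 1) := by rw [← mul_assoc, hUU, one_mul]

omit [CharP K 2] [IsAlgClosed K] in
theorem clock_of_pair (P : Submodule (ZMod r) X) (hP : finrank (ZMod r) P = 2) {u v : X}
    (hu : u ∈ P) (hv : v ∈ P) (hb : H.F.b u v ≠ 1) {α β : K} (hα : α ≠ 0) (hβ : β ≠ 0)
    (hαr : (α • H.eps u) ^ r = 1) (hβr : (β • H.eps v) ^ r = 1) :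
    H.PlaneClock P (α • H.eps u) (β • H.eps v) (H.F.b u v) := by
  have hprim : IsPrimitiveRoot (H.F.b u v) r := by
    exact IsPrimitiveRoot.iff_orderOf.mpr (orderOf_eq_prime (H.F.pow_r u v) hb)
  haveI : FiniteDimensional (ZMod r) P := Module.finite_of_finrank_eq_succ hP
  have hli : LinearIndependent (ZMod r) ![u, v] := by
    rw [LinearIndependent.pair_iff]
    intro s t hst
    have h1 : H.F.b (s • u + t • v) v = 1 := by rw [hst, H.F.zero_left]
    rw [H.F.add_left, H.F.smul_left, H.F.smul_left, H.F.self, one_pow, mul_one] at h1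
    have hs : s = 0 := by
      rw [← ZMod.natCast_zmod_val s, ZMod.natCast_eq_zero_iff]
      exact hprim.dvd_of_pow_eq_one _ h1
    refine ⟨hs, ?_⟩
    have h2 : H.F.b u (s • u + t • v) = 1 := by rw [hst, H.F.zero_right]
    rw [hs, zero_smul, zero_add, H.F.smul_right] at h2
    rw [← ZMod.natCast_zmod_val t, ZMod.natCast_eq_zero_iff]
    exact hprim.dvd_of_pow_eq_one _ h2
  refine ⟨⟨hprim, hαr, hβr, ?_⟩, Submodule.smul_mem _ _ (H.eps_mem hu),
    Submodule.smul_mem _ _ (H.eps_mem hv), Submodule.span_le.mpr ?_⟩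
  · rw [smul_mul_smul_comm, smul_mul_smul_comm, H.eps_comm, smul_smul, smul_smul, mul_comm α β,
      mul_comm (β * α)]
  · rintro _ ⟨a, ha, rfl⟩
    have hspan : Submodule.span (ZMod r) (Set.range ![u, v]) = P := by
      refine Submodule.eq_of_le_of_finrank_le (Submodule.span_le.mpr ?_) ?_
      · rintro _ ⟨i, rfl⟩; fin_cases i <;> assumption
      · rw [hP, finrank_span_eq_card hli, Fintype.card_fin]
    rw [← hspan, SetLike.mem_coe, Submodule.mem_span_range_iff_exists_fun] at ha
    obtain ⟨c, rfl⟩ := ha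
    rw [Fin.sum_univ_two]
    obtain ⟨c1, hc1, h1⟩ := H.eps_pow v (c 1).val
    obtain ⟨c0, hc0, h0⟩ := H.eps_pow u (c 0).val
    obtain ⟨d, hd, h2⟩ := H.eps_mul ((c 1).val • v) ((c 0).val • u)
    have key : (β • H.eps v) ^ (c 1).val * (α • H.eps u) ^ (c 0).val =
        (β ^ (c 1).val * c1 * (α ^ (c 0).val * c0) * d) • H.eps (c 0 • u + c 1 • v) := by
      rw [smul_pow, smul_pow, h1, h0, smul_smul, smul_smul, smul_mul_smul_comm, h2, smul_smul,
        ← Nat.cast_smul_eq_nsmul (ZMod r), ← Nat.cast_smul_eq_nsmul (ZMod r),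
        ZMod.natCast_zmod_val, ZMod.natCast_zmod_val, add_comm]
    have hne : β ^ (c 1).val * c1 * (α ^ (c 0).val * c0) * d ≠ 0 :=
      mul_ne_zero (mul_ne_zero (mul_ne_zero (pow_ne_zero _ hβ) hc1)
        (mul_ne_zero (pow_ne_zero _ hα) hc0)) hd
    show H.eps (c 0 • u + c 1 • v) ∈ _
    rw [← inv_smul_smul₀ hne (H.eps (c 0 • u + c 1 • v)), ← key]
    exact Submodule.smul_mem _ _ (Submodule.subset_span
      ⟨(⟨(c 1).val, ZMod.val_lt _⟩, ⟨(c 0).val, ZMod.val_lt _⟩), rfl⟩)

/-- Every plane carries a clock pair. -/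
theorem exists_clock (P : Submodule (ZMod r) X) (hP : finrank (ZMod r) P = 2)
    (hnd : ∀ a ∈ P, (∀ b ∈ P, H.F.b a b = 1) → a = 0) :
    ∃ U V ζ, H.PlaneClock P U V ζ := by
  obtain ⟨u, hu, hu0⟩ := (Submodule.ne_bot_iff P).mp fun h => by rw [h, finrank_bot] at hP; omega
  obtain ⟨v, hv, hb⟩ : ∃ v ∈ P, H.F.b u v ≠ 1 := by
    by_contra h
    push Not at h
    exact hu0 (hnd u hu h)
  obtain ⟨α, hα, hαr⟩ := H.exists_norm_pow u
  obtain ⟨β, hβ, hβr⟩ := H.exists_norm_pow v
  exact ⟨_, _, _, H.clock_of_pair P hP hu hv hb hα hβ hαr hβr⟩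

/-- A clock pair inverted by an element acting as `-1` on the plane. -/
theorem exists_clock_neg (P : Submodule (ZMod r) X) (hP : finrank (ZMod r) P = 2)
    (hnd : ∀ a ∈ P, (∀ b ∈ P, H.F.b a b = 1) → a = 0) {t : G} (ht : ∀ a ∈ P, H.act t a = -a) :
    ∃ U V ζ, H.PlaneClock P U V ζ ∧ H.conj t U = U ^ (r - 1) ∧ H.conj t V = V ^ (r - 1) := by
  obtain ⟨u, hu, hu0⟩ := (Submodule.ne_bot_iff P).mp fun h => by rw [h, finrank_bot] at hP; omega
  obtain ⟨v, hv, hb⟩ : ∃ v ∈ P, H.F.b u v ≠ 1 := by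
    by_contra h
    push Not at h
    exact hu0 (hnd u hu h)
  obtain ⟨α, hα, hαr, hα'⟩ := H.exists_norm_neg (ht u hu)
  obtain ⟨β, hβ, hβr, hβ'⟩ := H.exists_norm_neg (ht v hv)
  exact ⟨_, _, _, H.clock_of_pair P hP hu hv hb hα hβ hαr hβr, hα', hβ'⟩

end Heis

end H12.DL
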