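import Cfsg.Agent.H12.DL.Defs
import Mathlib.RingTheory.RootsOfUnity.PrimitiveRoots
import Mathlib.LinearAlgebra.Eigenspace.Triangularizable
import Mathlib.LinearAlgebra.Eigenspace.Minpoly
import Mathlib.Algebra.CharP.Two

/-!
A pair of operators `U`, `V` with `U ^ r = V ^ r = 1` and `U V = ζ V U`, and the involution
inverting both, in characteristic two (helper12, for S4259).
-/

set_option autoImplicit false
set_option linter.all false

namespace H12.DL

open Module

universe v x

variable {K : Type v} [Field K] {E : Type x} [AddCommGroup E] [Module K E]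

/-- A clock pair. -/
structure Clock (r : ℕ) (U V : Module.End K E) (ζ : K) : Prop where
  prim : IsPrimitiveRoot ζ r
  Ur : U ^ r = 1
  Vr : V ^ r = 1
  comm : U * V = ζ • (V * U)

/-- In characteristic two there is no nontrivial square root of one. -/
theorem eq_one_of_sq {K : Type v} [Field K] [CharP K 2] {ζ : K} (h : IsPrimitiveRoot ζ 2) : ζ = 1 := by
  have := h.eq_neg_one_of_two_right
  rwa [CharTwo.neg_eq] at this

/-- The projection on the fixed vectors of `U`. -/
noncomputable def cProj (r : ℕ) (U : Module.End K E) : Module.End K E :=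
  (r : K)⁻¹ • ∑ j ∈ Finset.range r, U ^ j

/-- The span of the `V`-orbit of a vector. -/
def cSpan (r : ℕ) (V : Module.End K E) (f : E) : Submodule K E :=
  Submodule.span K (Set.range fun i : Fin r => (V ^ (i : ℕ)) f)

namespace Clock

variable {r : ℕ} {U V : Module.End K E} {ζ : K} (C : Clock r U V ζ)
include C

theorem comm_pow : ∀ i : ℕ, U * V ^ i = ζ ^ i • (V ^ i * U)
  | 0 => by simp
  | i + 1 => by
    rw [pow_succ, ← mul_assoc, comm_pow i, smul_mul_assoc, mul_assoc, C.comm, mul_smul_comm,
      smul_smul, ← pow_succ, ← mul_assoc]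

theorem apply_pow {f : E} (hf : U f = f) (i : ℕ) : U ((V ^ i) f) = ζ ^ i • (V ^ i) f := by
  have := LinearMap.congr_fun (C.comm_pow i) f
  rwa [Module.End.mul_apply, LinearMap.smul_apply, Module.End.mul_apply, hf] at this

variable [hr : Fact r.Prime]

theorem V_inj : Function.Injective V := fun a b h => by
  have h1 := congrArg (V ^ (r - 1)) h
  rw [← Module.End.mul_apply, ← Module.End.mul_apply, ← pow_succ,
    Nat.sub_add_cancel hr.out.one_le, C.Vr] at h1
  exact h1

theorem zeta_ne_one : ζ ≠ 1 := C.prim.ne_one hr.out.one_lt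

theorem pow_inj {f : E} (hf : f ≠ 0) (i : ℕ) : (V ^ i) f ≠ 0 := by
  intro h
  apply hf
  induction i with
  | zero => simpa using h
  | succ i ih =>
    rw [pow_succ', Module.End.mul_apply] at h
    exact ih (C.V_inj (h.trans (map_zero V).symm))

theorem pow_mod (i : ℕ) : V ^ i = V ^ (i % r) := pow_eq_pow_mod i C.Vr

theorem pow_U_mod : U ^ ((r - 1) * (r - 1)) = U ^ 1 := by
  refine (pow_eq_pow_mod _ C.Ur).trans ?_
  congr 1
  obtain ⟨q, hq⟩ : ∃ q, r = q + 2 := ⟨r - 2, by have := hr.out.two_le; omega⟩
  have h1 : (r - 1) * (r - 1) = 1 + r * (r - 2) := by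
    rw [hq, Nat.add_sub_cancel, show q + 2 - 1 = q + 1 by omega]; ring
  rw [h1, Nat.add_mul_mod_self_left, Nat.mod_eq_of_lt hr.out.one_lt]

theorem mem_cSpan (f : E) (i : ℕ) : (V ^ i) f ∈ cSpan r V f := by
  rw [C.pow_mod i]
  exact Submodule.subset_span ⟨⟨i % r, Nat.mod_lt _ hr.out.pos⟩, rfl⟩

theorem self_mem_cSpan (f : E) : f ∈ cSpan r V f := by simpa using C.mem_cSpan f 0

theorem V_mem {f x : E} (hx : x ∈ cSpan r V f) : V x ∈ cSpan r V f := by
  induction hx using Submodule.span_induction with
  | mem y hy =>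
    obtain ⟨i, rfl⟩ := hy
    have := C.mem_cSpan f (i + 1)
    rwa [pow_succ', Module.End.mul_apply] at this
  | zero => rw [map_zero]; exact zero_mem _
  | add a b _ _ ha hb => rw [map_add]; exact add_mem ha hb
  | smul c a _ ha => rw [map_smul]; exact Submodule.smul_mem _ c ha

theorem U_mem {f x : E} (hf : U f = f) (hx : x ∈ cSpan r V f) : U x ∈ cSpan r V f := by
  induction hx using Submodule.span_induction with
  | mem y hy =>
    obtain ⟨i, rfl⟩ := hy
    rw [C.apply_pow hf]
    exact Submodule.smul_mem _ _ (C.mem_cSpan f i)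
  | zero => rw [map_zero]; exact zero_mem _
  | add a b _ _ ha hb => rw [map_add]; exact add_mem ha hb
  | smul c a _ ha => rw [map_smul]; exact Submodule.smul_mem _ c ha

theorem linearIndependent {f : E} (hf : U f = f) (hf0 : f ≠ 0) :
    LinearIndependent K fun i : Fin r => (V ^ (i : ℕ)) f :=
  Module.End.eigenvectors_linearIndependent' U (fun i : Fin r => ζ ^ (i : ℕ))
    (fun i j h => Fin.ext (C.prim.pow_inj i.2 j.2 h)) _
    fun i => ⟨Module.End.mem_eigenspace_iff.mpr (C.apply_pow hf i), C.pow_inj hf0 i⟩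

theorem finrank_cSpan {f : E} (hf : U f = f) (hf0 : f ≠ 0) : finrank K (cSpan r V f) = r := by
  rw [cSpan, finrank_span_eq_card (C.linearIndependent hf hf0), Fintype.card_fin]

theorem finiteDimensional_cSpan (f : E) : FiniteDimensional K (cSpan r V f) :=
  FiniteDimensional.span_of_finite K (Set.finite_range _)

/-- The fixed vectors of `U` in the span form a line. -/
theorem fixed_line {f x : E} (hf : U f = f) (hf0 : f ≠ 0) (hx : x ∈ cSpan r V f) (hUx : U x = x) :
    ∃ c : K, x = c • f := by
  classical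
  obtain ⟨a, rfl⟩ := (Submodule.mem_span_range_iff_exists_fun K).mp hx
  have h1 : ∑ i : Fin r, (a i * (ζ ^ (i : ℕ) - 1)) • (V ^ (i : ℕ)) f = 0 := by
    rw [map_sum] at hUx
    simp only [map_smul, C.apply_pow hf, smul_smul] at hUx
    simp only [mul_sub, mul_one, sub_smul, Finset.sum_sub_distrib, hUx, sub_self]
  have h2 := Fintype.linearIndependent_iff.mp (C.linearIndependent hf hf0) _ h1
  let i0 : Fin r := ⟨0, hr.out.pos⟩
  refine ⟨a i0, ?_⟩
  rw [Finset.sum_eq_single i0 (fun i _ hi => ?_) (fun h => absurd (Finset.mem_univ i0) h)]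
  · simp [i0]
  · rcases mul_eq_zero.mp (h2 i) with h | h
    · rw [h, zero_smul]
    · exact absurd (Fin.ext (C.prim.pow_inj i.2 hr.out.pos (by rw [pow_zero]; exact sub_eq_zero.mp h)))
        hi

/-- A nonzero invariant subspace contains a fixed vector of `U`. -/
theorem exists_fixed [IsAlgClosed K] [FiniteDimensional K E] {I : Submodule K E} (hI : I ≠ ⊥)
    (hU : ∀ v ∈ I, U v ∈ I) (hV : ∀ v ∈ I, V v ∈ I) : ∃ f ∈ I, f ≠ 0 ∧ U f = f := by
  haveI : NeZero r := ⟨hr.out.ne_zero⟩
  haveI : Nontrivial I := Submodule.nontrivial_iff_ne_bot.mpr hI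
  obtain ⟨a, ha⟩ := Module.End.exists_eigenvalue (U.restrict hU)
  obtain ⟨⟨w, hw⟩, hwe⟩ := ha.exists_hasEigenvector
  have hw0 : w ≠ 0 := fun h => hwe.2 (Subtype.ext h)
  have hUw : U w = a • w := congrArg Subtype.val hwe.apply_eq_smul
  have hp : ∀ k : ℕ, (U ^ k) w = a ^ k • w := by
    intro k
    induction k with
    | zero => simp
    | succ k ih => rw [pow_succ, Module.End.mul_apply, hUw, map_smul, ih, smul_smul, pow_succ']
  have har : a ^ r = 1 := by
    have h1 := hp r
    rw [C.Ur, Module.End.one_apply] at h1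
    exact smul_left_injective K hw0 (by simpa using h1.symm)
  obtain ⟨i, hi, rfl⟩ := C.prim.eq_pow_of_pow_eq_one har
  have hVI : ∀ k : ℕ, ∀ v ∈ I, (V ^ k) v ∈ I := by
    intro k
    induction k with
    | zero => intro v hv; simpa using hv
    | succ k ih => intro v hv; rw [pow_succ', Module.End.mul_apply]; exact hV _ (ih v hv)
  refine ⟨(V ^ (r - i)) w, hVI _ w hw, C.pow_inj hw0 _, ?_⟩
  have h1 := LinearMap.congr_fun (C.comm_pow (r - i)) w
  rw [Module.End.mul_apply, LinearMap.smul_apply, Module.End.mul_apply, hUw, map_smul, smul_smul,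
    ← pow_add, Nat.sub_add_cancel hi.le, C.prim.pow_eq_one, one_smul] at h1
  exact h1

section Proj

variable (hr0 : (r : K) ≠ 0)
include hr0

theorem proj_fix {f : E} (hf : U f = f) : cProj r U f = f := by
  have hp : ∀ j : ℕ, (U ^ j) f = f := by
    intro j
    induction j with
    | zero => simp
    | succ j ih => rw [pow_succ, Module.End.mul_apply, hf, ih]
  simp only [cProj, LinearMap.smul_apply, LinearMap.sum_apply, hp, Finset.sum_const,
    Finset.card_range, ← Nat.cast_smul_eq_nsmul K r f, smul_smul, inv_mul_cancel₀ hr0, one_smul]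

omit hr0 in
theorem U_mul_proj : U * cProj r U = cProj r U := by
  rw [cProj, mul_smul_comm]
  congr 1
  have h1 := Finset.sum_range_succ (fun j => U ^ j) r
  have h2 := Finset.sum_range_succ' (fun j => U ^ j) r
  rw [h1, pow_zero, C.Ur] at h2
  rw [Finset.mul_sum]
  simp only [← pow_succ']
  exact (add_right_cancel h2).symm

omit hr0 in
theorem proj_mul_U : cProj r U * U = cProj r U := by
  have hc : Commute U (cProj r U) :=
    Commute.smul_right (Commute.sum_right _ _ _ fun j _ => Commute.self_pow U j) _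
  rw [← hc.eq, C.U_mul_proj]

theorem proj_idem : cProj r U * cProj r U = cProj r U :=
  LinearMap.ext fun v => C.proj_fix hr0 (LinearMap.congr_fun C.U_mul_proj v)

omit hr0 in
theorem proj_corner {i : ℕ} (hi : ¬ r ∣ i) : cProj r U * V ^ i * cProj r U = 0 := by
  have h : cProj r U * V ^ i * cProj r U = ζ ^ i • (cProj r U * V ^ i * cProj r U) := by
    calc cProj r U * V ^ i * cProj r U = cProj r U * (U * V ^ i) * cProj r U := by
          rw [← mul_assoc (cProj r U) U, C.proj_mul_U]
      _ = ζ ^ i • (cProj r U * V ^ i * (U * cProj r U)) := by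
          rw [C.comm_pow, mul_smul_comm, smul_mul_assoc, mul_assoc, mul_assoc (V ^ i), ← mul_assoc (cProj r U) (V ^ i)]
      _ = _ := by rw [C.U_mul_proj]
  have hne : ζ ^ i - 1 ≠ 0 := sub_ne_zero.mpr fun h1 => hi (C.prim.dvd_of_pow_eq_one i h1)
  refine (smul_eq_zero.mp (?_ : (ζ ^ i - 1) • (cProj r U * V ^ i * cProj r U) = 0)).resolve_left hne
  rw [sub_smul, one_smul, ← h, sub_self]

end Proj

section Involution

variable [CharP K 2] {T : Module.End K E} {f : E} (hf : U f = f) (hf0 : f ≠ 0) (hTf : T f = f)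
  (hTV : ∀ x ∈ cSpan r V f, T (V x) = (V ^ (r - 1)) (T x))
include hf hTf hTV

omit hf in
theorem T_pow (i : ℕ) : T ((V ^ i) f) = (V ^ ((r - 1) * i)) f := by
  induction i with
  | zero => simpa using hTf
  | succ i ih =>
    rw [pow_succ', Module.End.mul_apply, hTV _ (C.mem_cSpan f i), ih, ← Module.End.mul_apply,
      ← pow_add, Nat.mul_succ, add_comm]

omit hf in
theorem T_mem {x : E} (hx : x ∈ cSpan r V f) : T x ∈ cSpan r V f := by
  induction hx using Submodule.span_induction with
  | mem y hy =>
    obtain ⟨i, rfl⟩ := hy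
    show T ((V ^ (i : ℕ)) f) ∈ _
    rw [C.T_pow hTf hTV]; exact C.mem_cSpan f _
  | zero => rw [map_zero]; exact zero_mem _
  | add a b _ _ ha hb => rw [map_add]; exact add_mem ha hb
  | smul c a _ ha => rw [map_smul]; exact Submodule.smul_mem _ c ha

omit hf in
theorem T_sub (i : ℕ) (hi : i ≤ r) :
    (T - 1) ((V ^ i) f) = (V ^ i) f + (V ^ (r - i)) f := by
  rw [LinearMap.sub_apply, Module.End.one_apply, C.T_pow hTf hTV]
  have hmod : (V ^ ((r - 1) * i)) = V ^ (r - i) := by
    rcases Nat.eq_zero_or_pos i with rfl | hpos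
    · simp [C.Vr]
    rw [C.pow_mod ((r - 1) * i), C.pow_mod (r - i)]
    congr 1
    have h1 : (r - 1) * i = (i - 1) * r + (r - i) := by
      obtain ⟨j, rfl⟩ : ∃ j, i = j + 1 := ⟨i - 1, by omega⟩
      obtain ⟨q, rfl⟩ : ∃ q, r = q + (j + 1) := ⟨r - (j + 1), by omega⟩
      simp only [Nat.add_sub_cancel, show q + (j + 1) - 1 = q + j by omega]
      ring
    rw [h1, Nat.mul_add_mod_self_right]
  rw [hmod, sub_eq_add_neg, ← neg_one_smul K ((V ^ i) f), CharTwo.neg_eq, one_smul, add_comm]

include hf0 in
theorem le_finrank_image : (r - 1) / 2 ≤ finrank K ((cSpan r V f).map (T - 1)) := by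
  haveI := C.finiteDimensional_cSpan f
  have hli := C.linearIndependent hf hf0
  let w : Fin ((r - 1) / 2) → E := fun i => (V ^ ((i : ℕ) + 1)) f + (V ^ (r - ((i : ℕ) + 1))) f
  have hw : LinearIndependent K w := by
    rw [Fintype.linearIndependent_iff]
    intro g hg k
    let a : Fin r → K := fun j =>
      ∑ i : Fin ((r - 1) / 2), (if (j : ℕ) = i + 1 then g i else 0) +
      ∑ i : Fin ((r - 1) / 2), (if (j : ℕ) = r - (i + 1) then g i else 0)
    have key : ∀ (h : Fin ((r - 1) / 2) → ℕ), (∀ i, h i < r) →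
        ∑ j : Fin r, (∑ i, if (j : ℕ) = h i then g i else 0) • (V ^ (j : ℕ)) f =
          ∑ i, g i • (V ^ h i) f := by
      intro h hh
      simp only [Finset.sum_smul]
      rw [Finset.sum_comm]
      refine Finset.sum_congr rfl fun i _ => ?_
      rw [Finset.sum_eq_single ⟨h i, hh i⟩ (fun j _ hj => by
        rw [if_neg (fun e => hj (Fin.ext e)), zero_smul]) (fun h' => absurd (Finset.mem_univ _) h')]
      simp
    have ha : ∑ j : Fin r, a j • (V ^ (j : ℕ)) f = 0 := by
      simp only [a, add_smul, Finset.sum_add_distrib]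
      rw [key (fun i => (i : ℕ) + 1) (fun i => by omega),
        key (fun i => r - ((i : ℕ) + 1)) (fun i => by omega), ← Finset.sum_add_distrib, ← hg]
      exact Finset.sum_congr rfl fun i _ => (smul_add _ _ _).symm
    have := Fintype.linearIndependent_iff.mp hli a ha ⟨(k : ℕ) + 1, by omega⟩
    simp only [a] at this
    rw [Finset.sum_eq_single k (fun i _ hi => if_neg fun e => hi (Fin.ext (by omega)))
      (fun h => absurd (Finset.mem_univ k) h), if_pos rfl,
      Finset.sum_eq_zero (fun i _ => if_neg (by omega)), add_zero] at this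
    exact this
  have hle : Submodule.span K (Set.range w) ≤ (cSpan r V f).map (T - 1) := by
    rw [Submodule.span_le]
    rintro _ ⟨i, rfl⟩
    exact ⟨_, C.mem_cSpan f ((i : ℕ) + 1), C.T_sub hTf hTV _ (by omega)⟩
  have := Submodule.finrank_mono hle
  rwa [finrank_span_eq_card hw, Fintype.card_fin] at this

include hf0 in
theorem finrank_image : finrank K ((cSpan r V f).map (T - 1)) = (r - 1) / 2 := by
  classical
  refine le_antisymm ?_ (C.le_finrank_image hf hf0 hTf hTV)
  let w : Fin ((r - 1) / 2) → E := fun i => (V ^ ((i : ℕ) + 1)) f + (V ^ (r - ((i : ℕ) + 1))) f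
  have hle : (cSpan r V f).map (T - 1) ≤ Submodule.span K (Set.range w) := by
    rw [cSpan, Submodule.map_span, Submodule.span_le]
    rintro _ ⟨_, ⟨i, rfl⟩, rfl⟩
    show (T - 1) ((V ^ (i : ℕ)) f) ∈ _
    rw [C.T_sub hTf hTV _ i.2.le]
    rcases Nat.eq_zero_or_pos (i : ℕ) with h0 | h0
    · rw [h0, pow_zero, Nat.sub_zero, C.Vr, Module.End.one_apply]
      have h2 : f + f = 0 := by rw [← two_smul K f, CharTwo.two_eq_zero, zero_smul]
      rw [h2]
      exact zero_mem _
    · by_cases hh : (i : ℕ) ≤ (r - 1) / 2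
      · exact Submodule.subset_span ⟨⟨(i : ℕ) - 1, by omega⟩, by
          simp only [w, Nat.sub_add_cancel h0]⟩
      · have hodd : r % 2 = 1 := by
          rcases hr.out.eq_two_or_odd with h | h
          · subst h
            exact absurd (eq_one_of_sq C.prim) C.zeta_ne_one
          · exact h
        exact Submodule.subset_span ⟨⟨r - (i : ℕ) - 1, by omega⟩, by
          simp only [w, show r - (i : ℕ) - 1 + 1 = r - i by omega,
            show r - (r - (i : ℕ)) = i by omega, add_comm]⟩
  haveI : FiniteDimensional K (Submodule.span K (Set.range w)) :=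
    FiniteDimensional.span_of_finite K (Set.finite_range _)
  refine (Submodule.finrank_mono hle).trans ((finrank_range_le_card w).trans ?_)
  rw [Fintype.card_fin]

end Involution

end Clock

/-- A nilpotent operator of order three has a square of rank at most a third of the dimension. -/
theorem three_mul_le [FiniteDimensional K E] (N : Module.End K E) (h3 : N ^ 3 = 0) :
    3 * finrank K (LinearMap.range (N ^ 2)) ≤ finrank K E := by
  have hker : LinearMap.range (N ^ 2) ≤ LinearMap.ker N := by
    rintro _ ⟨v, rfl⟩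
    rw [LinearMap.mem_ker, ← Module.End.mul_apply, ← pow_succ', h3, LinearMap.zero_apply]
  have hle : LinearMap.range (N ^ 2) ≤ LinearMap.range N := by
    rintro _ ⟨v, rfl⟩
    exact ⟨N v, by rw [pow_two, Module.End.mul_apply]⟩
  have h1 := LinearMap.finrank_range_add_finrank_ker N
  have h2 := Submodule.finrank_mono hker
  -- `N` restricted to its range
  let φ : LinearMap.range N →ₗ[K] E := N.comp (LinearMap.range N).subtype
  have hφr : LinearMap.range φ = LinearMap.range (N ^ 2) := by
    rw [LinearMap.range_comp, Submodule.range_subtype, ← LinearMap.range_comp, pow_two]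
    rfl
  have hφk : finrank K (LinearMap.range (N ^ 2)) ≤ finrank K (LinearMap.ker φ) := by
    rw [LinearMap.ker_comp]
    have e := Submodule.comap_subtype_eq_top.mpr hle
    refine le_trans (le_of_eq ?_) (Submodule.finrank_mono (Submodule.comap_mono hker))
    exact (LinearEquiv.finrank_eq (Submodule.comapSubtypeEquivOfLe hle)).symm
  have h3' := LinearMap.finrank_range_add_finrank_ker φ
  rw [hφr] at h3'
  omega

/-- A nilpotent operator of order four has kernel of dimension at least a quarter. -/
theorem le_four_mul [FiniteDimensional K E] (N : Module.End K E) (h4 : N ^ 4 = 0) :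
    finrank K E ≤ 4 * finrank K (LinearMap.ker N) := by
  have step : ∀ j : ℕ, finrank K (LinearMap.ker (N ^ (j + 1))) ≤
      finrank K (LinearMap.ker (N ^ j)) + finrank K (LinearMap.ker N) := by
    intro j
    let φ : LinearMap.ker (N ^ (j + 1)) →ₗ[K] E := N.comp (LinearMap.ker (N ^ (j + 1))).subtype
    have h1 := LinearMap.finrank_range_add_finrank_ker φ
    have h2 : LinearMap.range φ ≤ LinearMap.ker (N ^ j) := by
      rintro _ ⟨⟨v, hv⟩, rfl⟩
      rw [LinearMap.mem_ker] at hv ⊢
      rw [pow_succ, Module.End.mul_apply] at hv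
      exact hv
    have h3 : finrank K (LinearMap.ker φ) ≤ finrank K (LinearMap.ker N) := by
      let ψ : LinearMap.ker φ →ₗ[K] LinearMap.ker N :=
        LinearMap.codRestrict _ ((LinearMap.ker (N ^ (j + 1))).subtype.comp (LinearMap.ker φ).subtype)
          fun v => v.2
      exact LinearMap.finrank_le_finrank_of_injective (f := ψ) fun a b h =>
        Subtype.ext (Subtype.ext (congrArg (fun z : LinearMap.ker N => (z : E)) h :))
    have h4' := Submodule.finrank_mono h2
    omega
  have e0 : finrank K (LinearMap.ker (N ^ 0)) = 0 := by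
    rw [pow_zero, Module.End.one_eq_id, LinearMap.ker_id, finrank_bot]
  have e4 : finrank K (LinearMap.ker (N ^ 4)) = finrank K E := by
    rw [h4, LinearMap.ker_zero, finrank_top]
  have := step 0
  have := step 1
  have := step 2
  have := step 3
  simp only [Nat.reduceAdd] at *
  omega

end H12.DL
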