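import Cfsg.Agent.H51.Bryu.Linear
import Mathlib.GroupTheory.Solvable
import Mathlib.GroupTheory.PGroup

/-!
Local setting for the bound of the 2-length by the derived length (S4259): a projective
representation of a symplectic section with a group of operators, and plane decompositions (helper12).
-/

set_option autoImplicit false

namespace H12.DL

open H51.Bryu

universe u v w x

/-- A projective representation `eps` of a nondegenerate section `X`, intertwined by the operators. -/
structure Heis (r : ℕ) [Fact r.Prime] (K : Type v) (X : Type w) (E : Type x) (G : Type u)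
    [Field K] [AddCommGroup X] [Module (ZMod r) X] [AddCommGroup E] [Module K E] [Group G] where
  F : PairingForm r K X
  eps : X → Module.End K E
  eps_zero : eps 0 = 1
  eps_mul : ∀ a b, ∃ c : K, c ≠ 0 ∧ eps a * eps b = c • eps (a + b)
  eps_comm : ∀ a b, eps a * eps b = F.b a b • (eps b * eps a)
  act : G →* (X ≃ₗ[ZMod r] X)
  act_iso : ∀ g, act g ∈ F.iso
  op : G →* Module.End K E
  op_eps : ∀ g a, ∃ c : K, op g * eps a = c • (eps (act g a) * op g)

/-- A family of pairwise orthogonal planes spanning `X`, permuted by the operators. -/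
structure PlaneDec {r : ℕ} [Fact r.Prime] {K : Type v} {X : Type w} {G : Type u}
    [Field K] [AddCommGroup X] [Module (ZMod r) X] [Group G]
    (F : PairingForm r K X) (act : G →* (X ≃ₗ[ZMod r] X))
    (s : Finset (Submodule (ZMod r) X)) : Prop where
  rank : ∀ P ∈ s, Module.finrank (ZMod r) P = 2
  orth : ∀ P ∈ s, ∀ Q ∈ s, P ≠ Q → ∀ a ∈ P, ∀ b ∈ Q, F.b a b = 1
  top : s.sup id = ⊤
  perm : ∀ g, ∀ P ∈ s, P.map (act g).toLinearMap ∈ s

/-- The chain condition: the displacements by the `j`-th derived subgroup move `V j` into `V (j+1)`. -/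
structure DerivedChain {K : Type v} {E : Type x} {G : Type u} [Field K] [AddCommGroup E] [Module K E]
    [Group G] (op : G →* Module.End K E) (e : ℕ) (V : ℕ → Submodule K E) : Prop where
  top : V 0 = ⊤
  bot : V e = ⊥
  step : ∀ j, ∀ g ∈ derivedSeries G j, ∀ v ∈ V j, op g v - v ∈ V (j + 1)

end H12.DL
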