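import Cfsg.Agent.H12.DL.Alg

/-!
A rank-one idempotent in the algebra of a plane whose image is invariant under the stabiliser and,
if some element acts as `-1` on the plane, lies in the displacements of that element (helper12, for S4259).
-/

set_option autoImplicit false
set_option linter.all false

namespace H12.DL

open Module H51.Bryu

universe u v w x

variable {r : ℕ} [Fact r.Prime] {K : Type v} [Field K] {X : Type w} [AddCommGroup X]
  [Module (ZMod r) X] {E : Type x} [AddCommGroup E] [Module K E] {G : Type u} [Group G]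

namespace Heis

variable (H : Heis r K X E G)

/-- An idempotent of rank one in the algebra of a plane, with invariant image. -/
structure Corner (P : Submodule (ZMod r) X) (f : Module.End K E) : Prop where
  mem : f ∈ H.A P
  idem : f * f = f
  corner : ∀ y ∈ H.A P, ∃ c : K, f * y * f = c • f
  hit : ∀ I : Submodule K E, I ≠ ⊥ → (∀ y ∈ H.A P, ∀ z ∈ I, y z ∈ I) → ∃ z ∈ I, f z ≠ 0
  stab : ∀ g : G, (∀ a ∈ P, H.act g a ∈ P) → ∀ z, f z = z → f (H.op g z) = H.op g z
  neg : ∀ t : G, (∀ a ∈ P, H.act t a = -a) → ∀ z, f z = z → H.op t z = z →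
    ∃ a ∈ H.A P, H.op t (a z) - a z = z

variable [Nontrivial E] [CharP K 2]

omit [Nontrivial E] [CharP K 2] in
theorem clock_conj (g : G) {U V : Module.End K E} {ζ : K} (C : Clock r U V ζ) :
    Clock r (H.conj g U) (H.conj g V) ζ :=
  ⟨C.prim, by rw [← H.conj_pow, C.Ur, H.conj_one], by rw [← H.conj_pow, C.Vr, H.conj_one],
    by rw [← H.conj_mul, ← H.conj_mul, C.comm, map_smul]⟩

omit [Nontrivial E] [CharP K 2] in
theorem conj_cProj (g : G) (U : Module.End K E) :
    H.conj g (cProj r U) = cProj r (H.conj g U) := by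
  simp only [cProj, map_smul, map_sum, H.conj_pow]

omit [Nontrivial E] [CharP K 2] in
theorem clock_mulLeft {U V : Module.End K E} {ζ : K} (C : Clock r U V ζ) :
    Clock r (LinearMap.mulLeft K U) (LinearMap.mulLeft K V) ζ :=
  ⟨C.prim, by rw [LinearMap.pow_mulLeft, C.Ur, LinearMap.mulLeft_one]; rfl,
    by rw [LinearMap.pow_mulLeft, C.Vr, LinearMap.mulLeft_one]; rfl,
    LinearMap.ext fun y => by
      simp only [Module.End.mul_apply, LinearMap.mulLeft_apply, LinearMap.smul_apply, ← mul_assoc,
        C.comm, smul_mul_assoc]⟩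

omit [Nontrivial E] in
theorem conj_eq_of_neg [Finite G] (hG : IsPGroup 2 G) [Nontrivial E] {P : Submodule (ZMod r) X}
    {s t : G} (hs : ∀ a ∈ P, H.act s a = -a) (ht : ∀ a ∈ P, H.act t a = -a)
    {y : Module.End K E} (hy : y ∈ H.A P) : H.conj t y = H.conj s y := by
  have e : t = s * (s⁻¹ * t) := by group
  obtain ⟨n, hn⟩ := hG (s⁻¹ * t)
  have hfix : ∀ a ∈ P, H.act (s⁻¹ * t) a = a := fun a ha => by
    rw [map_mul, LinearEquiv.mul_apply, ht a ha, map_inv, LinearEquiv.coe_inv]
    exact (H.act s).symm_apply_eq.mpr (hs a ha).symm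
  rw [e, H.conj_comp, H.conj_eq_self hn hfix hy]

variable [IsAlgClosed K] [FiniteDimensional K E] [Finite G]

/-- The idempotent of a plane. -/
theorem exists_corner (hr2 : r ≠ 2) (hG : IsPGroup 2 G) (P : Submodule (ZMod r) X)
    (hP : finrank (ZMod r) P = 2) (hnd : ∀ a ∈ P, (∀ b ∈ P, H.F.b a b = 1) → a = 0) :
    ∃ f, H.Corner P f := by
  classical
  have hr0 : (r : K) ≠ 0 := Heis.natCast_ne_zero hr2
  have hr3 : 3 ≤ r := by
    have := (Fact.out : r.Prime).two_le
    omega
  -- a clock adapted to an element acting as `-1`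
  obtain ⟨U, V, ζ, hPC, hneg⟩ : ∃ U V ζ, H.PlaneClock P U V ζ ∧
      ∀ t : G, (∀ a ∈ P, H.act t a = -a) →
        H.conj t U = U ^ (r - 1) ∧ H.conj t V = V ^ (r - 1) := by
    by_cases h : ∃ s : G, ∀ a ∈ P, H.act s a = -a
    · obtain ⟨s, hs⟩ := h
      obtain ⟨U, V, ζ, hPC, hU, hV⟩ := H.exists_clock_neg P hP hnd hs
      exact ⟨U, V, ζ, hPC, fun t ht => by
        rw [H.conj_eq_of_neg hG hs ht hPC.memU, H.conj_eq_of_neg hG hs ht hPC.memV]; exact ⟨hU, hV⟩⟩
    · push Not at h
      obtain ⟨U, V, ζ, hPC⟩ := H.exists_clock P hP hnd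
      exact ⟨U, V, ζ, hPC, fun t ht => absurd ht (fun h' => by
        obtain ⟨a, ha, hne⟩ := h t; exact hne (h' a ha))⟩
  have C := hPC.clock
  have C' := clock_mulLeft C
  set e := cProj r U with he
  have heA : e ∈ H.A P := by
    rw [he, cProj]
    exact Submodule.smul_mem _ _ (Submodule.sum_mem _ fun j _ => H.pow_mem_A hPC.memU j)
  have hee : e * e = e := C.proj_idem hr0
  have hUe : U * e = e := C.U_mul_proj
  have hUje : ∀ j : ℕ, U ^ j * e = e := by
    intro j
    induction j with
    | zero => rw [pow_zero, one_mul]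
    | succ j ih => rw [pow_succ', mul_assoc, ih, hUe]
  have heU : e * U = e := C.proj_mul_U
  have he0 : e ≠ 0 := fun h => by
    obtain ⟨w, -, hw0, hUw⟩ := C.exists_fixed (I := ⊤) top_ne_bot
      (fun _ _ => trivial) (fun _ _ => trivial)
    have := C.proj_fix hr0 hUw
    rw [← he, h, LinearMap.zero_apply] at this
    exact hw0 this.symm
  set L := cSpan r (LinearMap.mulLeft K V) e with hL
  have hLU : LinearMap.mulLeft K U e = e := hUe
  have hLdim : finrank K L = r := C'.finrank_cSpan hLU he0
  haveI hLfd : FiniteDimensional K L := C'.finiteDimensional_cSpan e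
  have hgen : ∀ i : ℕ, (LinearMap.mulLeft K V ^ i) e = V ^ i * e := fun i => by
    rw [LinearMap.pow_mulLeft, LinearMap.mulLeft_apply]
  have memL : ∀ y ∈ H.A P, y * e ∈ L := by
    intro y hy
    have hy' := hPC.span hy
    clear hy
    induction hy' using Submodule.span_induction with
    | mem z hz =>
      obtain ⟨⟨i, j⟩, rfl⟩ := hz
      show V ^ (i : ℕ) * U ^ (j : ℕ) * e ∈ L
      rw [mul_assoc, hUje, ← hgen]
      exact C'.mem_cSpan e i
    | zero => rw [zero_mul]; exact zero_mem _
    | add a b _ _ ha hb => rw [add_mul]; exact add_mem ha hb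
    | smul c a _ ha => rw [smul_mul_assoc]; exact Submodule.smul_mem _ c ha
  have hLA : ∀ l ∈ L, l ∈ H.A P ∧ l * e = l := by
    intro l hl
    induction hl using Submodule.span_induction with
    | mem z hz =>
      obtain ⟨i, rfl⟩ := hz
      show (LinearMap.mulLeft K V ^ (i : ℕ)) e ∈ H.A P ∧ (LinearMap.mulLeft K V ^ (i : ℕ)) e * e =
        (LinearMap.mulLeft K V ^ (i : ℕ)) e
      rw [hgen]
      exact ⟨H.mul_mem_A (H.pow_mem_A hPC.memV _) heA, by rw [mul_assoc, hee]⟩
    | zero => exact ⟨zero_mem _, zero_mul _⟩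
    | add a b _ _ ha hb => exact ⟨add_mem ha.1 hb.1, by rw [add_mul, ha.2, hb.2]⟩
    | smul c a _ ha => exact ⟨Submodule.smul_mem _ c ha.1, by rw [smul_mul_assoc, ha.2]⟩
  have hLmul : ∀ y ∈ H.A P, ∀ l ∈ L, y * l ∈ L := fun y hy l hl => by
    have := memL _ (H.mul_mem_A hy (hLA l hl).1)
    rwa [mul_assoc, (hLA l hl).2] at this
  have heL : e ∈ L := C'.self_mem_cSpan e
  have hcornere : ∀ y ∈ H.A P, ∃ c : K, e * y * e = c • e := by
    intro y hy
    obtain ⟨a, ha⟩ := (Submodule.mem_span_range_iff_exists_fun K).mp (memL y hy)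
    let i0 : Fin r := ⟨0, (Fact.out : r.Prime).pos⟩
    refine ⟨a i0, ?_⟩
    rw [mul_assoc, ← ha, Finset.mul_sum, Finset.sum_eq_single i0]
    · simp only [i0, pow_zero, Module.End.one_apply, mul_smul_comm, hee]
    · intro i _ hi
      rw [hgen, mul_smul_comm, ← mul_assoc, C.proj_corner, smul_zero]
      exact fun hd => hi (Fin.ext (Nat.eq_zero_of_dvd_of_lt hd i.2))
    · exact fun h => absurd (Finset.mem_univ _) h
  have hhit : ∀ (U' V' : Module.End K E), Clock r U' V' ζ → U' ∈ H.A P → V' ∈ H.A P →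
      ∀ I : Submodule K E, I ≠ ⊥ → (∀ y ∈ H.A P, ∀ z ∈ I, y z ∈ I) →
        ∃ z ∈ I, cProj r U' z ≠ 0 := by
    intro U' V' C1 hU' hV' I hI hinv
    obtain ⟨w, hw, hw0, hUw⟩ := C1.exists_fixed hI (fun v hv => hinv U' hU' v hv)
      (fun v hv => hinv V' hV' v hv)
    exact ⟨w, hw, by rwa [C1.proj_fix hr0 hUw]⟩
  -- the fixed line of a conjugate clock inside `L`
  let St : Subgroup G :=
    { carrier := {g | ∀ a ∈ P, H.act g a ∈ P}
      one_mem' := fun a ha => by simpa using ha
      mul_mem' := fun {g h} hg hh a ha => by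
        rw [map_mul, LinearEquiv.mul_apply]; exact hg _ (hh a ha)
      inv_mem' := fun {g} hg a ha => by
        have hk : ∀ k : ℕ, ∀ b ∈ P, H.act (g ^ k) b ∈ P := by
          intro k
          induction k with
          | zero => intro b hb; simpa using hb
          | succ k ih => intro b hb; rw [pow_succ, map_mul, LinearEquiv.mul_apply]; exact ih _ (hg b hb)
        obtain ⟨n, hn⟩ := hG g
        have h1 : g⁻¹ = g ^ (2 ^ n - 1) := inv_eq_of_mul_eq_one_right (by
          rw [← pow_succ', Nat.sub_add_cancel Nat.one_le_two_pow, hn])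
        rw [h1]; exact hk _ a ha }
  have hconjA : ∀ g ∈ St, ∀ y ∈ H.A P, H.conj g y ∈ H.A P := fun g hg y hy =>
    H.conj_mem_A g hg hy
  have hexw : ∀ g : St, ∃ w ∈ L, w ≠ 0 ∧ H.conj (g : G) U * w = w ∧ H.conj (g : G) e * w = w := by
    intro g
    have Cg := H.clock_conj (g : G) C
    let I : Submodule K E := ⨆ l : L, LinearMap.range (l : Module.End K E)
    have hIinv : ∀ y ∈ H.A P, ∀ z ∈ I, y z ∈ I := by
      intro y hy z hz
      induction hz using Submodule.iSup_induction' with
      | mem l a ha =>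
        obtain ⟨b, rfl⟩ := ha
        exact Submodule.mem_iSup_of_mem (⟨y * l, hLmul y hy _ l.2⟩ : L) ⟨b, rfl⟩
      | zero => rw [map_zero]; exact zero_mem _
      | add a b _ _ ha hb => rw [map_add]; exact add_mem ha hb
    have hI : I ≠ ⊥ := by
      intro h
      apply he0
      ext z
      have : e z ∈ I := Submodule.mem_iSup_of_mem (⟨e, heL⟩ : L) ⟨z, rfl⟩
      rwa [h, Submodule.mem_bot] at this
    obtain ⟨z, hz, hz0⟩ := hhit _ _ Cg (hconjA g g.2 U hPC.memU) (hconjA g g.2 V hPC.memV) I hI hIinv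
    obtain ⟨l, hl⟩ : ∃ l : L, cProj r (H.conj (g : G) U) * (l : Module.End K E) ≠ 0 := by
      by_contra hcon
      push Not at hcon
      apply hz0
      clear hz0
      induction hz using Submodule.iSup_induction' with
      | mem l a ha =>
        obtain ⟨b, rfl⟩ := ha
        exact LinearMap.congr_fun (hcon l) b
      | zero => exact map_zero _
      | add a b _ _ ha hb => rw [map_add, ha, hb, add_zero]
    refine ⟨_, hLmul _ ?_ _ l.2, hl, ?_, ?_⟩
    · rw [← H.conj_cProj]; exact hconjA g g.2 e heA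
    · rw [← mul_assoc, Cg.U_mul_proj]
    · rw [he, H.conj_cProj, ← mul_assoc, Cg.proj_idem hr0]
  choose wf hwL hw0 hwU hwe using hexw
  -- the projective action on `L`
  have hTmem : ∀ (g : St), ∀ l ∈ L,
      (LinearMap.mulRight K (wf g)).comp (H.conj (g : G)) l ∈ L := fun g l hl => by
    show H.conj (g : G) l * wf g ∈ L
    exact hLmul _ (hconjA g g.2 _ (hLA l hl).1) _ (hwL g)
  let T : St → Module.End K L := fun g => ((LinearMap.mulRight K (wf g)).comp (H.conj (g : G))).restrict (hTmem g)
  have hTap : ∀ g (l : L), (T g l : Module.End K E) = H.conj (g : G) l * wf g := fun g l => rfl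
  have hspanL : ∀ g : St, cSpan r (LinearMap.mulLeft K (H.conj (g : G) V)) (wf g) = L := by
    intro g
    have Cg' := clock_mulLeft (H.clock_conj (g : G) C)
    refine Submodule.eq_of_le_of_finrank_le ?_ ?_
    · rw [cSpan, Submodule.span_le]
      rintro _ ⟨i, rfl⟩
      show (LinearMap.mulLeft K (H.conj (g : G) V) ^ (i : ℕ)) (wf g) ∈ L
      rw [LinearMap.pow_mulLeft, LinearMap.mulLeft_apply]
      exact hLmul _ (H.pow_mem_A (hconjA g g.2 V hPC.memV) _) _ (hwL g)
    · rw [hLdim, Cg'.finrank_cSpan (hwU g) (hw0 g)]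
  have hline : ∀ (g : St) (y : Module.End K E), y ∈ L → H.conj (g : G) U * y = y →
      ∃ c : K, y = c • wf g := fun g y hy hUy =>
    (clock_mulLeft (H.clock_conj (g : G) C)).fixed_line (hwU g) (hw0 g)
      (by rw [hspanL]; exact hy) hUy
  have hTinj : ∀ g, Function.Injective (T g) := fun g => by
    refine LinearMap.injective_iff_surjective.mpr (LinearMap.range_eq_top.mp (eq_top_iff.mpr ?_))
    rintro ⟨y, hy⟩ -
    have hy' := hy
    rw [← hspanL g] at hy'
    induction hy' using Submodule.span_induction with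
    | mem z hz =>
      obtain ⟨i, rfl⟩ := hz
      refine ⟨⟨V ^ (i : ℕ) * e, hLmul _ (H.pow_mem_A hPC.memV _) _ heL⟩, Subtype.ext ?_⟩
      show H.conj (g : G) (V ^ (i : ℕ) * e) * wf g =
        (LinearMap.mulLeft K (H.conj (g : G) V) ^ (i : ℕ)) (wf g)
      rw [LinearMap.pow_mulLeft, LinearMap.mulLeft_apply, H.conj_mul, H.conj_pow, mul_assoc, hwe]
    | zero => exact ⟨0, by rw [map_zero]; rfl⟩
    | add a b ha hb ha' hb' =>
      obtain ⟨p, hp⟩ := ha' (by rw [← hspanL g]; exact ha)
      obtain ⟨q, hq⟩ := hb' (by rw [← hspanL g]; exact hb)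
      exact ⟨p + q, by rw [map_add, hp, hq]; rfl⟩
    | smul c a ha ha' =>
      obtain ⟨p, hp⟩ := ha' (by rw [← hspanL g]; exact ha)
      exact ⟨c • p, by rw [map_smul, hp]; rfl⟩
  have hTproj : IsProj T := by
    refine ⟨hTinj, fun g h => ?_⟩
    obtain ⟨c, hc⟩ := hline (g * h) (H.conj (g : G) (wf h) * wf g)
      (hLmul _ (hconjA g g.2 _ (hLA _ (hwL h)).1) _ (hwL g)) (by
        rw [Subgroup.coe_mul, H.conj_comp, ← mul_assoc, ← H.conj_mul, hwU])
    refine ⟨c, fun h0 => ?_, LinearMap.ext fun l => Subtype.ext ?_⟩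
    · rw [h0, zero_smul] at hc
      refine hw0 h ?_
      have : T g ⟨wf h, hwL h⟩ = T g 0 := by
        rw [map_zero]; exact Subtype.ext hc
      exact congrArg Subtype.val (hTinj g this)
    · show H.conj (g : G) (H.conj (h : G) l * wf h) * wf g =
        c • (H.conj ((g * h : St) : G) l * wf (g * h))
      rw [H.conj_mul, mul_assoc, hc, mul_smul_comm, Subgroup.coe_mul, H.conj_comp]
  -- the subspace in which the eigenvector is taken
  haveI : Nontrivial L := ⟨⟨⟨e, heL⟩, 0, fun h => he0 (congrArg Subtype.val h)⟩⟩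
  have hinvsq : ∀ t : G, (∀ a ∈ P, H.act t a = -a) → ∀ y ∈ H.A P, H.conj t (H.conj t y) = y := by
    intro t ht y hy
    rw [← H.conj_comp]
    obtain ⟨n, hn⟩ := hG (t * t)
    exact H.conj_eq_self hn (fun a ha => by
      rw [map_mul, LinearEquiv.mul_apply, ht a ha, map_neg, ht a ha, neg_neg]) hy
  have hte : ∀ t : G, (∀ a ∈ P, H.act t a = -a) → H.conj t e = e := by
    intro t ht
    obtain ⟨hU', hV'⟩ := hneg t ht
    have Ct := H.clock_conj t C
    have h1 : cProj r (H.conj t U) * e = e := LinearMap.ext fun z => Ct.proj_fix hr0 (by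
      rw [hU', ← Module.End.mul_apply, hUje])
    have h2 : e * cProj r (H.conj t U) = cProj r (H.conj t U) := LinearMap.ext fun z =>
      C.proj_fix hr0 (by
        set q := cProj r (H.conj t U) z with hq
        have : H.conj t U q = q := LinearMap.congr_fun Ct.U_mul_proj z
        calc U q = U (H.conj t U q) := by rw [this]
          _ = q := by
            rw [hU', ← Module.End.mul_apply, ← pow_succ',
              Nat.sub_add_cancel (Fact.out : r.Prime).one_le, C.Ur, Module.End.one_apply])
    rw [he, H.conj_cProj]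
    have hc : Commute e (cProj r (H.conj t U)) := by
      rw [he, hU']
      exact Commute.smul_left (Commute.smul_right (Commute.sum_left _ _ _ fun i _ =>
        Commute.sum_right _ _ _ fun j _ => (Commute.pow_pow_self U i (r - 1)).pow_right j) _) _
    rw [← h2, hc.eq, h1]
  obtain ⟨v, hvL, hv0, hveig, hvneg⟩ : ∃ v ∈ L, v ≠ 0 ∧
      (∀ g : St, ∃ c : K, H.conj (g : G) v * wf g = c • v) ∧
      ∀ t : G, (∀ a ∈ P, H.act t a = -a) → ∃ l ∈ L, H.conj t l - l = v := by
    by_cases h : ∃ s : G, ∀ a ∈ P, H.act s a = -a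
    · obtain ⟨s, hs⟩ := h
      have hsSt : s ∈ St := fun a ha => by rw [hs a ha]; exact neg_mem ha
      have hsL : ∀ l ∈ L, H.conj s l ∈ L := fun l hl => by
        have := memL _ (hconjA s hsSt _ (hLA l hl).1)
        have e1 : H.conj s l * e = H.conj s l := by
          conv_rhs => rw [← (hLA l hl).2, H.conj_mul, hte s hs]
        rwa [e1] at this
      let J : Submodule K L := LinearMap.range ((H.conj s).restrict hsL - 1)
      have hJ : J ≠ ⊥ := by
        intro hJ0
        have h1 := C'.le_finrank_image (T := H.conj s) hLU he0 (hte s hs) (fun y hy => by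
          rw [LinearMap.mulLeft_apply, H.conj_mul, (hneg s hs).2, LinearMap.pow_mulLeft,
            LinearMap.mulLeft_apply])
        have h2 : L.map (H.conj s - 1) = ⊥ := by
          rw [Submodule.eq_bot_iff]
          rintro _ ⟨l, hl, rfl⟩
          have : ((H.conj s).restrict hsL - 1) ⟨l, hl⟩ ∈ J := ⟨_, rfl⟩
          rw [hJ0, Submodule.mem_bot] at this
          exact congrArg Subtype.val this
        rw [h2, finrank_bot] at h1
        omega
      have hJinv : ∀ g : St, ∀ q ∈ J, T g q ∈ J := by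
        rintro g _ ⟨l, rfl⟩
        refine ⟨T g l, Subtype.ext ?_⟩
        show H.conj s (H.conj (g : G) l * wf g) - H.conj (g : G) l * wf g =
          H.conj (g : G) (H.conj s l - l) * wf g
        have hlA := (hLA _ l.2).1
        have hg' : ∀ a ∈ P, H.act ((g : G) * s * (g : G)⁻¹) a = -a := fun a ha => by
          rw [map_mul, map_mul, LinearEquiv.mul_apply, LinearEquiv.mul_apply,
            hs _ (inv_mem g.2 a ha), map_neg, ← LinearEquiv.mul_apply, ← map_mul, mul_inv_cancel,
            map_one]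
          rfl
        have hcom : H.conj s (H.conj (g : G) l) = H.conj (g : G) (H.conj s l) := by
          rw [H.conj_eq_of_neg hG hg' hs (hconjA g g.2 _ hlA), ← H.conj_comp, ← H.conj_comp]
          congr 1
          congr 1
          group
        have hsw : H.conj s (wf g) = wf g := by
          obtain ⟨c, hc⟩ := hline g (H.conj s (wf g)) (hsL _ (hwL g)) (by
            have hU' : H.conj s (H.conj (g : G) U) = H.conj (g : G) U ^ (r - 1) := by
              rw [H.conj_eq_of_neg hG hg' hs (hconjA g g.2 _ hPC.memU), ← H.conj_comp,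
                show (g : G) * s * (g : G)⁻¹ * g = g * s by group, H.conj_comp, (hneg s hs).1,
                H.conj_pow]
            have h1 : H.conj (g : G) U ^ (r - 1) * H.conj s (wf g) = H.conj s (wf g) := by
              rw [← hU', ← H.conj_mul, hwU]
            calc H.conj (g : G) U * H.conj s (wf g)
                = H.conj (g : G) U * (H.conj (g : G) U ^ (r - 1) * H.conj s (wf g)) := by rw [h1]
              _ = H.conj s (wf g) := by
                rw [← mul_assoc, ← pow_succ', Nat.sub_add_cancel (Fact.out : r.Prime).one_le,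
                  ← H.conj_pow, C.Ur, H.conj_one, one_mul])
          have h2 := congrArg (H.conj s) hc
          rw [hinvsq s hs _ (hLA _ (hwL g)).1, map_smul, hc, smul_smul] at h2
          have : c ^ 2 ^ 1 = 1 := by
            rw [pow_one, pow_two]
            exact smul_left_injective K (hw0 g) (by simpa using h2.symm)
          rw [hc, eq_one_of_pow_two_pow this, one_smul]
        rw [H.conj_mul, hsw, hcom, map_sub, sub_mul]
      obtain ⟨⟨v, hvL⟩, hvJ, hv0, hv⟩ := hTproj.exists_common (hG.to_subgroup St) J hJ hJinv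
      refine ⟨v, hvL, fun h => hv0 (Subtype.ext h), fun g => ?_, fun t ht => ?_⟩
      · obtain ⟨c, hc⟩ := hv g
        exact ⟨c, congrArg Subtype.val hc⟩
      · obtain ⟨l, hl⟩ := hvJ
        refine ⟨l, l.2, ?_⟩
        rw [H.conj_eq_of_neg hG hs ht (hLA _ l.2).1]
        exact congrArg Subtype.val hl
    · push Not at h
      obtain ⟨⟨v, hvL⟩, -, hv0, hv⟩ := hTproj.exists_common (hG.to_subgroup St) ⊤ top_ne_bot
        (fun _ _ _ => trivial)
      refine ⟨v, hvL, fun h0 => hv0 (Subtype.ext h0), fun g => ?_, fun t ht => ?_⟩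
      · obtain ⟨c, hc⟩ := hv g
        exact ⟨c, congrArg Subtype.val hc⟩
      · obtain ⟨a, ha, hne⟩ := h t
        exact absurd (ht a ha) hne
  -- a left inverse of `v`
  obtain ⟨z, hzA, hez, hzv⟩ : ∃ z ∈ H.A P, e * z = z ∧ z * v = e := by
    obtain ⟨a, ha⟩ := (Submodule.mem_span_range_iff_exists_fun K).mp hvL
    obtain ⟨i, hi⟩ : ∃ i, a i ≠ 0 := by
      by_contra hcon
      push Not at hcon
      refine hv0 (ha ▸ Finset.sum_eq_zero fun i _ => ?_)
      rw [hcon i, zero_smul]
    refine ⟨(a i)⁻¹ • (e * V ^ (r - (i : ℕ))),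
      Submodule.smul_mem _ _ (H.mul_mem_A heA (H.pow_mem_A hPC.memV _)), by
        rw [mul_smul_comm, ← mul_assoc, hee], ?_⟩
    rw [smul_mul_assoc, ← ha, Finset.mul_sum, Finset.sum_eq_single i]
    · rw [hgen, mul_smul_comm, mul_assoc e, ← mul_assoc (V ^ _), ← pow_add,
        Nat.sub_add_cancel i.2.le, C.Vr, one_mul, hee, smul_smul, inv_mul_cancel₀ hi, one_smul]
    · intro j _ hj
      rw [hgen, mul_smul_comm, mul_assoc e, ← mul_assoc (V ^ _), ← pow_add, ← mul_assoc,
        C.proj_corner, smul_zero]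
      intro hd
      obtain ⟨k, hk⟩ := hd
      have hk1 : k = 1 := by
        have : 0 < r * k := by omega
        have : r * k < r * 2 := by omega
        have := Nat.lt_of_mul_lt_mul_left this
        rcases k with _ | k
        · simp at *
        · omega
      subst hk1
      exact hj (Fin.ext (by omega))
    · exact fun h => absurd (Finset.mem_univ _) h
  have hvA := (hLA v hvL).1
  have hve := (hLA v hvL).2
  have hfv : v * z * v = v := by rw [mul_assoc, hzv, hve]
  refine ⟨v * z, H.mul_mem_A hvA hzA, by rw [← mul_assoc, hfv], fun y hy => ?_, fun I hI hinv => ?_,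
    fun g hg q hq => ?_, fun t ht q hq hfix => ?_⟩
  · obtain ⟨c, hc⟩ := hcornere (z * y * v) (H.mul_mem_A (H.mul_mem_A hzA hy) hvA)
    refine ⟨c, ?_⟩
    have h1 : e * (z * y * v) * e = z * y * v := by
      rw [← mul_assoc, ← mul_assoc, hez, mul_assoc (z * y), hve]
    rw [h1] at hc
    calc v * z * y * (v * z) = v * (z * y * v) * z := by simp only [mul_assoc]
      _ = c • (v * z) := by rw [hc, mul_smul_comm, hve, smul_mul_assoc]
  · obtain ⟨q, hq, hq0⟩ := hhit U V C hPC.memU hPC.memV I hI hinv
    refine ⟨v (e q), hinv v hvA _ (hinv e heA _ hq), ?_⟩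
    rw [← Module.End.mul_apply, hfv]
    intro h0
    apply hq0
    have h1 := congrArg z h0
    rwa [map_zero, ← Module.End.mul_apply, hzv, ← Module.End.mul_apply, hee] at h1
  · obtain ⟨c, hc⟩ := hveig ⟨g, hg⟩
    have hc0 : c ≠ 0 := fun h0 => hv0 (by
      have : T ⟨g, hg⟩ ⟨v, hvL⟩ = T ⟨g, hg⟩ 0 := by
        rw [map_zero]; exact Subtype.ext (by rw [hTap, hc, h0, zero_smul]; rfl)
      exact congrArg Subtype.val (hTinj _ this))
    have hle : LinearMap.range v ≤ LinearMap.range (H.conj g v) := by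
      rintro _ ⟨y, rfl⟩
      refine ⟨c⁻¹ • wf ⟨g, hg⟩ y, ?_⟩
      rw [map_smul, ← Module.End.mul_apply, hc, LinearMap.smul_apply, inv_smul_smul₀ hc0]
    have hrange : LinearMap.range (H.conj g v) = (LinearMap.range v).map (H.op g) := by
      ext y
      constructor
      · rintro ⟨p, rfl⟩
        exact ⟨v (H.op g⁻¹ p), ⟨_, rfl⟩, rfl⟩
      · rintro ⟨_, ⟨p, rfl⟩, rfl⟩
        exact ⟨H.op g p, H.conj_op g v p⟩
    have heq : LinearMap.range v = LinearMap.range (H.conj g v) := by
      refine Submodule.eq_of_le_of_finrank_le hle ?_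
      rw [hrange]
      exact Submodule.finrank_map_le _ _
    have hmem : H.op g q ∈ LinearMap.range v := by
      rw [heq, hrange]
      exact ⟨q, ⟨z q, by rwa [← Module.End.mul_apply]⟩, rfl⟩
    obtain ⟨p, hp⟩ := hmem
    rw [← hp, ← Module.End.mul_apply, hfv]
  · obtain ⟨l, hl, hlv⟩ := hvneg t ht
    have hUh : U (z q) = z q := by
      rw [← hez, ← Module.End.mul_apply, ← mul_assoc, hUe]
    have hmemS : ∀ y ∈ H.A P, y (z q) ∈ cSpan r V (z q) := by
      intro y hy
      have hy' := hPC.span hy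
      clear hy
      induction hy' using Submodule.span_induction with
      | mem p hp =>
        obtain ⟨⟨i, j⟩, rfl⟩ := hp
        show (V ^ (i : ℕ) * U ^ (j : ℕ)) (z q) ∈ _
        rw [← hez, ← Module.End.mul_apply, mul_assoc, ← mul_assoc (U ^ _), hUje, hez,
          Module.End.mul_apply]
        exact C.mem_cSpan _ i
      | zero => exact zero_mem _
      | add a b _ _ ha hb => rw [LinearMap.add_apply]; exact add_mem ha hb
      | smul c a _ ha => rw [LinearMap.smul_apply]; exact Submodule.smul_mem _ c ha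
    have htSt : t ∈ St := fun a ha => by rw [ht a ha]; exact neg_mem ha
    have hth : H.op t (z q) = z q := by
      rcases eq_or_ne (z q) 0 with h0 | h0
      · rw [h0, map_zero]
      have hmem : H.op t (z q) ∈ cSpan r V (z q) := by
        rw [H.conj_apply_fixed z hfix]
        have := hmemS (H.conj t z * v) (H.mul_mem_A (hconjA t htSt z hzA) hvA)
        rwa [Module.End.mul_apply, ← Module.End.mul_apply v z, hq] at this
      have hfixU : U (H.op t (z q)) = H.op t (z q) := by
        have h1 : H.conj t (U ^ (r - 1)) (H.op t (z q)) = H.op t (z q) := by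
          have e1 : (U ^ (r - 1)) (z q) = z q := by
            rw [← hez, ← Module.End.mul_apply, ← mul_assoc, hUje]
          rw [H.conj_op, e1]
        rwa [H.conj_pow, (hneg t ht).1, ← pow_mul, C.pow_U_mod, pow_one] at h1
      obtain ⟨c, hc⟩ := C.fixed_line hUh h0 hmem hfixU
      have h2 : H.op t (H.op t (z q)) = z q := by
        rw [H.conj_apply_fixed z hfix, H.conj_apply_fixed _ hfix, hinvsq t ht z hzA]
      rw [hc, map_smul, hc, smul_smul] at h2
      have : c ^ 2 ^ 1 = 1 := by
        rw [pow_one, pow_two]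
        exact smul_left_injective K h0 (by simpa using h2)
      rw [hc, eq_one_of_pow_two_pow this, one_smul]
    refine ⟨l * z, H.mul_mem_A (hLA l hl).1 hzA, ?_⟩
    rw [Module.End.mul_apply, H.conj_apply_fixed l hth, ← LinearMap.sub_apply, hlv,
      ← Module.End.mul_apply, hq]

end Heis

end H12.DL
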